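import Cfsg.Agent.S0887
import Cfsg.Agent.H954.LD.Row

/-!
# Characters of an overgroup of index two, for the sporadic rows of S4910 (helper896)

* `isIrr_res` : a character `χ` of `A` restricts irreducibly to the normal subgroup `N` of index `≤ 2` if no irreducible
  character of `N` has degree `χ(1)/2`;
* `copRow_of_aut` : a row of S4910 from two characters of a group `A` inducing all automorphisms of its normal subgroup
  `N ≅ S`.
-/

set_option autoImplicit false
set_option linter.unusedSectionVars false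

namespace Cfsg.Agent.H896.LD

open Cfsg Cfsg.Agent.Characters.Core Cfsg.Agent.Blocks.Basic

universe u v

theorem isIrr_res {A : Type u} [Group A] [Finite A] (N : Subgroup A) [N.Normal] (h2 : N.index ∣ 2)
    {χ : A → ℂ} (hχ : IsIrrCharacter A χ) (hno : ∀ ϑ : IrrCharacter N, 2 * charDegree (ϑ : N → ℂ) ≠ charDegree χ) :
    IsIrrCharacter N (fun n : N => χ n) := by
  classical
  have := Fintype.ofFinite A
  have := Fintype.ofFinite N
  have hfin : Finite (IrrCharacter N) := finite_irr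
  have := Fintype.ofFinite (IrrCharacter N)
  have hres : IsCharacter N (fun n : N => χ n) := isCharacter_comp N.subtype (isIrr_isCharacter hχ)
  obtain ⟨m, hm⟩ := exists_nat_comb hres
  have hdeg : ∑ ψ : IrrCharacter N, m ψ * charDegree (ψ : N → ℂ) = charDegree χ := by
    have h1 := congrFun hm 1
    beta_reduce at h1
    rw [Subgroup.coe_one, irr_one_eq_charDegree hχ, Finset.sum_apply] at h1
    have h3 : ∀ ψ : IrrCharacter N, (m ψ • (ψ : N → ℂ)) 1 = ((m ψ * charDegree (ψ : N → ℂ) : ℕ) : ℂ) := by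
      intro ψ
      rw [Pi.smul_apply, irr_one_eq_charDegree ψ.2, nsmul_eq_mul, Nat.cast_mul]
    rw [Finset.sum_congr rfl fun ψ _ => h3 ψ, ← Nat.cast_sum] at h1
    exact_mod_cast h1.symm
  have hpos : 0 < charDegree χ := by
    have h1 := isIrr_apply_one_ne_zero hχ
    rw [irr_one_eq_charDegree hχ] at h1
    exact Nat.pos_of_ne_zero fun h3 => h1 (by rw [h3, Nat.cast_zero])
  obtain ⟨ψ, hψ⟩ : ∃ ψ, m ψ ≠ 0 := by
    by_contra hcon
    push Not at hcon
    rw [Finset.sum_eq_zero fun ψ _ => by rw [hcon ψ, zero_mul]] at hdeg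
    omega
  have hin : classInner (fun n : N => χ n) (ψ : N → ℂ) ≠ 0 := by
    rw [hm, classInner_sum_nsmul_irr]
    exact_mod_cast hψ
  obtain ⟨h3, h4⟩ := S0887.result N χ hχ (ψ : N → ℂ) ψ.2 hin (charDegree χ) (charDegree (ψ : N → ℂ))
    (irr_one_eq_charDegree hχ) (irr_one_eq_charDegree ψ.2)
  obtain ⟨k, hk⟩ := h3
  have hψpos : 0 < charDegree (ψ : N → ℂ) := by
    refine Nat.pos_of_ne_zero fun h5 => ?_
    rw [h5, zero_mul] at hk
    omega
  rw [hk, Nat.mul_div_cancel_left _ hψpos] at h4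
  have hk1 : k = 1 := by
    rcases (Nat.dvd_prime Nat.prime_two).1 (h4.trans h2) with h5 | h5
    · exact h5
    · exact absurd (by rw [hk, h5, mul_comm]) (hno ψ)
  rw [hk1, mul_one] at hk
  -- the other multiplicities vanish
  rw [← Finset.add_sum_erase _ _ (Finset.mem_univ ψ)] at hdeg
  have hm1 : m ψ = 1 := by
    have h5 : m ψ * charDegree (ψ : N → ℂ) ≤ charDegree (ψ : N → ℂ) := by omega
    have h6 : m ψ ≤ 1 := Nat.le_of_mul_le_mul_right (by omega : m ψ * charDegree (ψ : N → ℂ) ≤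
      1 * charDegree (ψ : N → ℂ)) hψpos
    omega
  rw [hm1, one_mul] at hdeg
  have hz : ∑ x ∈ Finset.univ.erase ψ, m x * charDegree (x : N → ℂ) = 0 := by omega
  rw [Finset.sum_eq_zero_iff] at hz
  have hm0 : ∀ x : IrrCharacter N, x ≠ ψ → m x = 0 := by
    intro x hx
    have h5 := hz x (Finset.mem_erase.2 ⟨hx, Finset.mem_univ x⟩)
    rcases Nat.mul_eq_zero.1 h5 with h6 | h6
    · exact h6
    · exfalso
      have h7 := isIrr_apply_one_ne_zero x.2
      rw [irr_one_eq_charDegree x.2, h6, Nat.cast_zero] at h7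
      exact h7 rfl
  have hfin' : (fun n : N => χ n) = (ψ : N → ℂ) := by
    rw [hm, Finset.sum_eq_single ψ (fun x _ hx => by rw [hm0 x hx, zero_smul])
      (fun h5 => absurd (Finset.mem_univ _) h5), hm1, one_smul]
  rw [hfin']
  exact ψ.2

open Cfsg.Agent.H954.LD

/-- **A row from two characters of an overgroup of index two inducing all automorphisms.** -/
theorem copRow_of_aut {S : Type u} [Group S] [Finite S] [IsSimpleGroup S] (hna : ¬ IsMulCommutative S)
    (hout : Nat.card (Out S) ≤ 2) {A : Type v} [Group A] [Finite A] (N : Subgroup A) [N.Normal] (hN : N.index ∣ 2)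
    (e : S ≃* N) (haut : ∀ σ : N ≃* N, ∃ a : A, ∀ n : N, ((σ n : N) : A) = a * n * a⁻¹) {χ ψ : IrrCharacter A}
    (hχ : charDegree (χ : A → ℂ) ≠ 1) (hψ : charDegree (ψ : A → ℂ) ≠ 1)
    (hc : Nat.Coprime (charDegree (χ : A → ℂ)) (charDegree (ψ : A → ℂ)))
    (hnχ : ∀ ϑ : IrrCharacter N, 2 * charDegree (ϑ : N → ℂ) ≠ charDegree (χ : A → ℂ))
    (hnψ : ∀ ϑ : IrrCharacter N, 2 * charDegree (ϑ : N → ℂ) ≠ charDegree (ψ : A → ℂ)) : CopRow S := by
  have key : ∀ χ : IrrCharacter A, (∀ ϑ : IrrCharacter N, 2 * charDegree (ϑ : N → ℂ) ≠ charDegree (χ : A → ℂ)) →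
      ∃ α : IrrCharacter S, charDegree (α : S → ℂ) = charDegree (χ : A → ℂ) ∧ Inv α := by
    intro χ hn
    have h1 := isIrr_res N hN χ.2 hn
    have h2 : IsIrrCharacter S ((fun n : N => (χ : A → ℂ) n) ∘ (e.toMonoidHom : S →* N)) :=
      isIrr_comp e.toMonoidHom e.surjective h1
    refine ⟨⟨_, h2⟩, ?_, ?_⟩
    · unfold charDegree
      show Nat.floor ((((fun n : N => (χ : A → ℂ) n) ∘ (e.toMonoidHom : S →* N)) 1).re) = _
      rw [Function.comp_apply, map_one, Subgroup.coe_one]
    · intro b s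
      show (χ : A → ℂ) ((e (b s) : N) : A) = (χ : A → ℂ) ((e s : N) : A)
      obtain ⟨a, ha⟩ := haut ((e.symm.trans b).trans e)
      have h3 := ha (e s)
      rw [MulEquiv.trans_apply, MulEquiv.trans_apply, MulEquiv.symm_apply_apply] at h3
      rw [h3]
      exact isIrr_isClassFunction χ.2 _ a
  obtain ⟨α, hα, hiα⟩ := key χ hnχ
  obtain ⟨β, hβ, hiβ⟩ := key ψ hnψ
  exact copRow_inv hna hout (by rw [hα]; exact hχ) (by rw [hβ]; exact hψ) (by rw [hα, hβ]; exact hc) hiα hiβ

end Cfsg.Agent.H896.LD
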