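import Cfsg.Agent.H678.DG.HSDeg
import Cfsg.Agent.H896.LD.ResTwo

/-!
# Characters of degrees 22 and 175 of `Aut HS` (helper896, for S4910)

The certificates of helper678 for `HS` work for the full automorphism group `autG 100 adjA` of the Higman-Sims graph: the
action on the 3850 pairs of nonadjacent vertices.
-/

set_option autoImplicit false
set_option maxRecDepth 100000

namespace Cfsg.Agent.H896.LD.HSDeg

open Cfsg Equiv Cfsg.Agent.SporadicA.PermTab Cfsg.Agent.HN Cfsg.Agent.HN.HS100 Cfsg.Agent.H678.DG.Blk Cfsg.Agent.H678.DG.Pts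
  Cfsg.Agent.H678.DG.PairRep Cfsg.Agent.H678.DG.HSData Cfsg.Agent.H678.DG.HSDeg

theorem hR' : ∀ g ∈ autG 100 adjA, ∀ i j : Fin 100, R (g i) (g j) = R i j := by
  intro g hg i j
  have h1 := hg i j
  unfold R
  rw [h1]
  congr 1
  rw [Bool.eq_iff_iff, nbeq_iff, nbeq_iff, Ne, Ne, ← Fin.ext_iff, ← Fin.ext_iff, g.injective.eq_iff]

theorem hT' (x : Fin 13) : InG (autG 100 adjA) (T x) := by
  obtain ⟨g, hg, h⟩ := hT x
  exact ⟨g, (AutBound.mem_Q_iff.1 hg).1, h⟩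

theorem hdiv' : ∀ J : Finset (Fin 12), 6 ∈ J → (∑ j ∈ J, kk j) ∣ 23040 → J = {6} := by decide +kernel

/-- The degree for an eigenvalue. -/
theorem deg' (a : Fin 12 → ℚ) (t : ℚ) (L : Fin 12 → Fin 12 → ℚ) (d : ℕ)
    (ha : a 0 = 1) (hBa : ∀ i : Fin 12, ∑ j : Fin 12, (B i j : ℚ) * a j = t * a i)
    (hL : ∀ i j : Fin 12, ∑ l : Fin 12, L i l * ((B l j : ℚ) - if l = j then t else 0) =
      (if i = j then 1 else 0) - if j = 0 then a i else 0)
    (hd : (d : ℚ) * ∑ j : Fin 12, (kk j : ℚ) * (a j * a j) = (3850 : ℕ)) :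
    ∃ χ : IrrCharacter (autG 100 adjA), charDegree (χ : autG 100 adjA → ℂ) = d :=
  deg_of_pairs dat hR' T hT' (KW := KW) (bs := bs) (pr := pr) (kk := kk) (γ := gam) (c₁ := 6) (B := B) (st := 23040)
    (by rw [AutBound.card_autG]) (by norm_num) (by norm_num) (by decide +kernel) (by norm_num) (by norm_num)
    (by decide +kernel) c1 c2 c3 c4 hdiv' a t L d ha hBa hL hd

theorem deg_175 : ∃ χ : IrrCharacter (autG 100 adjA), charDegree (χ : autG 100 adjA → ℂ) = 175 :=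
deg' ![1, -1/120, 1/12, -1/120, -1/10, 1/12, -1/10, 1/12, -1/10, 7/40, -3/8, 4/15] (-9) ![![0, 0, 0, 0, 0, 0,
    0, 0, 0, 0, 0, 0], ![1/480, 1/8, 0, -1/12, -1/9, 1/48, -1/96, 1/48, 0, 5/72, -5/216, 0], ![-13/384, 5/32,
    1/4, -25/48, 5/72, 35/192, 85/384, 35/192, -5/24, -55/288, -85/864, 0], ![3/640, -5/32, -1/12, 17/48,
    7/72, -11/192, -13/384, -9/64, 1/24, -17/288, 37/864, 0], ![77/2880, -11/16, -1/6, 5/8, 3/4, -15/32,
    -9/64, -13/96, 1/4, -47/144, 41/144, 0], ![-17/576, 3/16, 1/6, -7/24, -5/36, 37/96, 35/192, 5/96, -1/4,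
    -1/16, -83/432, 0], ![1/90, 0, 0, 0, 0, 0, 0, 0, 0, 0, 0, 0], ![-1/32, 3/8, 1/3, -5/4, -1/18, 5/48, 19/96,
    29/48, -1/6, -1/72, -19/216, 0], ![13/320, -3/16, -1/6, 7/24, -1/12, -7/32, -17/64, -5/96, 1/4, 41/144,
    17/144, 0], ![-79/1920, 19/32, 1/4, -13/16, -5/8, 31/64, 25/128, 15/64, -7/24, 29/96, -9/32, 0], ![79/576,
    -25/16, -5/6, 15/8, 5/4, -65/32, -55/64, -35/96, 5/4, -5/144, 19/16, 0], ![-13/120, 1/2, 0, -1/3, 8/9,
    -5/12, 17/24, -1/12, 0, -23/18, 7/54, 0]] 175 (by decide +kernel) (by decide +kernel) (by decide +kernel)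
    (by decide +kernel)

theorem deg_22 : ∃ χ : IrrCharacter (autG 100 adjA), charDegree (χ : autG 100 adjA → ℂ) = 22 :=
deg' ![1, -1/24, -11/24, 1/6, -1/4, 1/6, 1/6, 7/12, -1/4, -1/4, 3/8, -2/3] 15 ![![0, 0, 0, 0, 0, 0, 0, 0, 0,
    0, 0, 0], ![-2279/828000, -171/4600, -371/17250, 47/1380, 1/115, 121/9200, 7/18400, 331/27600, -8/1725,
    49/4600, 71/69000, 0], ![-8281/331200, -879/1840, -3509/6900, 403/552, -43/276, 739/3680, 613/7360,
    1163/3680, -169/1380, -79/1840, 599/27600, 0], ![623/72000, 77/400, 277/1500, -29/120, 1/20, -77/800,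
    -59/1600, -247/2400, 17/300, 11/1200, -77/6000, 0], ![-1147/92000, -877/4600, -1309/5750, 389/1380,
    -29/345, 977/9200, 1159/18400, 3547/27600, -89/1150, 63/4600, 359/23000, 0], ![7679/828000, 721/4600,
    1571/17250, -217/1380, 3/230, -221/9200, -507/18400, -1631/27600, 91/3450, -99/4600, 93/23000, 0], ![1/90,
    0, 0, 0, 0, 0, 0, 0, 0, 0, 0, 0], ![12677/414000, 1423/2300, 5273/8625, -177/230, 19/115, -1323/4600,
    -1141/9200, -5653/13800, 308/1725, 63/2300, -1223/34500, 0], ![-3257/276000, -1429/4600, -1493/5750,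
    191/460, -27/230, 1529/9200, 1343/18400, 1673/9200, -359/3450, -547/13800, 543/23000, 0], ![-271/24000,
    -87/400, -129/500, 13/40, -1/20, 87/800, 129/1600, 119/800, -9/100, -41/1200, 29/2000, 0], ![9/460, 33/92,
    24/115, -17/46, 3/46, -3/92, -15/184, -13/92, 3/46, -3/92, -71/1380, 0], ![-3571/103500, -329/575,
    -472/2875, 2/115, 26/345, 179/1150, 343/2300, 119/3450, 314/1725, 101/575, 29/8625, 0]] 22 (by decide +kernel) (by decide +kernel) (by decide +kernel) (by decide +kernel)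

end Cfsg.Agent.H896.LD.HSDeg
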