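import Cfsg.Agent.H896.LD.HSDeg
import Cfsg.Agent.H471.Eight.CertHS
import Cfsg.Agent.H904.HSIso
import Cfsg.Agent.KFacts.HS.Base
import Cfsg.Agent.H55.OutGen

/-!
# Row HS of S4910 (helper896)

Characters of degrees 22 and 175 of `Aut HS` restrict irreducibly to `HS` (no character of degree 11: residue modulo 7).
-/

set_option autoImplicit false
set_option maxRecDepth 100000

namespace Cfsg.Agent.H896.LD

open Cfsg Cfsg.Agent.SporadicA.PermTab Cfsg.Agent.HN Cfsg.Agent.HN.HS100 Cfsg.Agent.H954.LD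
open Cfsg.Agent.H653.Sys Cfsg.Agent.H653.Sieve Cfsg.Agent.H471.Eight Cfsg.Agent.H471.Eight.CertHS

namespace RowHS

theorem isoHS_Q : Spor.IsoHS Q := ⟨AutHS.nonempty_Q.1.some⟩

/-- no character of `Q` has degree 11 -/
theorem no_eleven (ϑ : IrrCharacter Q) : charDegree (ϑ : Q → ℂ) ≠ 11 := by
  classical
  have := Characters.Core.finite_irr (G := Q)
  let _ := Fintype.ofFinite (IrrCharacter Q)
  have hs : IsSimpleGroup Q := AutHS.nonempty_Q.2
  have hcard : Nat.card Q = 44352000 := AutBound.card_Q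
  have hx : ∀ D ∈ Ds, D.Cent Q := by
    intro D hD
    simp only [Ds, List.mem_cons, List.not_mem_nil, or_false] at hD
    rcases hD with rfl | rfl
    · have : Fact (Nat.Prime 11) := ⟨by norm_num⟩
      obtain ⟨x, hx⟩ := exists_prime_orderOf_dvd_card' (G := Q) 11 (by rw [hcard]; norm_num)
      exact ⟨x, hx, (H904.HSIso.card_eleven isoHS_Q hx).trans (by norm_num)⟩
    · have : Fact (Nat.Prime 7) := ⟨by norm_num⟩
      obtain ⟨x, hx⟩ := exists_prime_orderOf_dvd_card' (G := Q) 7 (by rw [hcard]; norm_num)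
      exact ⟨x, hx, (H904.HSIso.card_seven isoHS_Q hx).trans (by norm_num)⟩
  have hT : Tab Q (fun g : Q => orderOf g) 44352000 CertHS.L (Ds.map PD.fam) [] CertHS.B.flatten :=
    Tab.of_primes hcard (by norm_num) (by decide +kernel) (by decide +kernel) rfl (by decide +kernel) hx hB (by simp)
  obtain ⟨Ws, -, h2⟩ := hT.sys
  intro h
  have h1 : (ϑ : Q → ℂ) ≠ 1 := by
    intro h3
    rw [h3] at h
    unfold charDegree at h
    rw [Pi.one_apply, Complex.one_re, Nat.floor_one] at h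
    omega
  have h3 := h2 ϑ h1
  have h4 : (deg ϑ, Ws.map fun W => W ϑ).1 = 11 := h
  have h5 : ∀ x ∈ CertHS.B.flatten, x.1 ≠ 11 := by
    have h6 : CertHS.B.flatten.all (fun x => !Nat.beq x.1 11) = true := by decide +kernel
    intro x hx h7
    have h8 := List.all_eq_true.1 h6 x hx
    rw [h7] at h8
    exact absurd h8 (by decide)
  exact h5 _ h3 h4

/-- `Q` as a subgroup of the automorphism group of the graph -/
def N : Subgroup (autG 100 adjA) := Q.subgroupOf (autG 100 adjA)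

theorem le : Q ≤ autG 100 adjA := fun _ hg => (AutBound.mem_Q_iff.1 hg).1

/-- the isomorphism -/
def eN : N ≃* Q := Subgroup.subgroupOfEquivOfLe le

instance : N.Normal := by
  constructor
  intro n hn g
  have h1 : ((n : autG 100 adjA) : Equiv.Perm (Fin 100)) ∈ Q := hn
  show ((g * n * g⁻¹ : autG 100 adjA) : Equiv.Perm (Fin 100)) ∈ Q
  rw [AutBound.mem_Q_iff] at h1 ⊢
  refine ⟨Subtype.property _, ?_⟩
  rw [Subgroup.coe_mul, Subgroup.coe_mul, Subgroup.coe_inv, map_mul, map_mul, map_inv, h1.2, mul_one, mul_inv_cancel]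

theorem index_N : N.index ∣ 2 := by
  have h1 := N.card_mul_index
  rw [Nat.card_congr eN.toEquiv, AutBound.card_Q, AutBound.card_autG] at h1
  have h2 : N.index = 2 := by omega
  rw [h2]

theorem haut (σ : N ≃* N) : ∃ a : autG 100 adjA, ∀ n : N, ((σ n : N) : autG 100 adjA) = a * n * a⁻¹ := by
  obtain ⟨p, hp, h1⟩ := AutHS.exists_perm ((eN.symm.trans σ).trans eN)
  refine ⟨⟨p, hp⟩, fun n => ?_⟩
  have h2 := h1 (eN n)
  rw [MulEquiv.trans_apply, MulEquiv.trans_apply, MulEquiv.symm_apply_apply] at h2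
  exact Subtype.ext h2

theorem no_half (c : ℕ) (hc : c = 22 ∨ c = 175) (ϑ : IrrCharacter N) : 2 * charDegree (ϑ : N → ℂ) ≠ c := by
  intro h
  rcases hc with rfl | rfl
  · refine no_eleven ⟨_, Characters.Core.isIrr_comp eN.symm.toMonoidHom eN.symm.surjective ϑ.2⟩ ?_
    have h2 : charDegree (ϑ : N → ℂ) = 11 := by omega
    rw [← h2]
    unfold charDegree
    show Nat.floor ((((ϑ : N → ℂ) ∘ (eN.symm.toMonoidHom : Q →* N)) 1).re) = _
    rw [Function.comp_apply, map_one]
  · omega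

end RowHS

open RowHS

universe u

/-- **Row HS.** -/
theorem row_HS {S : Type u} [Group S] [Finite S] [IsSimpleGroup S] (hna : ¬ IsMulCommutative S) (h : Spor.IsoHS S) :
    Cfsg.Agent.H954.LD.CopRow S := by
  obtain ⟨χ, hχ⟩ := HSDeg.deg_22
  obtain ⟨ψ, hψ⟩ := HSDeg.deg_175
  have hout : Nat.card (Out S) ≤ 2 := by
    obtain ⟨e⟩ := h
    rw [H55.OutGen.card_out_congr e]
    exact (KFacts.HS.index_inn ⟨MulEquiv.refl _⟩).le
  obtain ⟨e⟩ := h
  obtain ⟨f⟩ := AutHS.nonempty_Q.1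
  refine copRow_of_aut hna hout N index_N ((e.trans f.symm).trans eN.symm) haut (χ := χ) (ψ := ψ) ?_ ?_ ?_ ?_ ?_
  · rw [hχ]; norm_num
  · rw [hψ]; norm_num
  · rw [hχ, hψ]; norm_num
  · rw [hχ]; exact no_half 22 (Or.inl rfl)
  · rw [hψ]; exact no_half 175 (Or.inr rfl)

end Cfsg.Agent.H896.LD
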